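import Mathlib
import Cfsg.Agent.OddHalf.D9.EEight.Model
import Cfsg.Agent.LieClassical.OrthForms
import Cfsg.Agent.LieClassical.OrthFinite
import Cfsg.Agent.LieClassical.OrthSimple
import Cfsg.Agent.ClassicalGeometry.OrthAut1
import Cfsg.Agent.LargeExtra.Cards

-- merged: Cfsg.Agent.OddHalf.D9.EEight.Id.Gen
section

/-!
# `W(E₈)` is generated by the simple reflections

`mem_closure : w ∈ closure (range s)` for every isometry `w` of the lattice.
-/

set_option autoImplicit false

namespace Cfsg.Agent.OddHalf.D9.EEight.Id.Gen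

open Matrix Cfsg.Agent.OddHalf.D9.EEight

/-- The form, explicitly. -/
theorem form_expl (x y : Lat) : form x y =
    2 * (x 0 * y 0 + x 1 * y 1 + x 2 * y 2 + x 3 * y 3 + x 4 * y 4 + x 5 * y 5 + x 6 * y 6 + x 7 * y 7)
    - (x 0 * y 2 + x 2 * y 0) - (x 1 * y 3 + x 3 * y 1) - (x 2 * y 3 + x 3 * y 2)
    - (x 3 * y 4 + x 4 * y 3) - (x 4 * y 5 + x 5 * y 4) - (x 5 * y 6 + x 6 * y 5)
    - (x 6 * y 7 + x 7 * y 6) := by
  unfold form
  simp only [dotProduct, mulVec, Fin.sum_univ_eight, GM, CartanMatrix.E₈]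
  simp
  ring

/-- Half of the norm. -/
def q (x : Lat) : ℤ :=
  x 0 * x 0 + x 1 * x 1 + x 2 * x 2 + x 3 * x 3 + x 4 * x 4 + x 5 * x 5 + x 6 * x 6 + x 7 * x 7
    - x 0 * x 2 - x 1 * x 3 - x 2 * x 3 - x 3 * x 4 - x 4 * x 5 - x 5 * x 6 - x 6 * x 7

theorem form_self (x : Lat) : form x x = 2 * q x := by
  rw [form_expl, q]; ring

theorem sos (x : Lat) : 60 * form x x = 30 * (2 * x 0 - x 2) ^ 2 + 30 * (2 * x 1 - x 3) ^ 2 +
    10 * (3 * x 2 - 2 * x 3) ^ 2 + 2 * (5 * x 3 - 6 * x 4) ^ 2 + 3 * (4 * x 4 - 5 * x 5) ^ 2 +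
    5 * (3 * x 5 - 4 * x 6) ^ 2 + 10 * (2 * x 6 - 3 * x 7) ^ 2 + 30 * x 7 ^ 2 := by
  rw [form_expl]; ring

theorem form_nonneg (x : Lat) : 0 ≤ form x x := by
  have := sos x
  have h1 := sq_nonneg (2 * x 0 - x 2)
  have h2 := sq_nonneg (2 * x 1 - x 3)
  have h3 := sq_nonneg (3 * x 2 - 2 * x 3)
  have h4 := sq_nonneg (5 * x 3 - 6 * x 4)
  have h5 := sq_nonneg (4 * x 4 - 5 * x 5)
  have h6 := sq_nonneg (3 * x 5 - 4 * x 6)
  have h7 := sq_nonneg (2 * x 6 - 3 * x 7)
  have h8 := sq_nonneg (x 7)
  omega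

theorem eq_zero_of_form {x : Lat} (h : form x x ≤ 0) : x = 0 := by
  have := sos x
  have h1 := sq_nonneg (2 * x 0 - x 2)
  have h2 := sq_nonneg (2 * x 1 - x 3)
  have h3 := sq_nonneg (3 * x 2 - 2 * x 3)
  have h4 := sq_nonneg (5 * x 3 - 6 * x 4)
  have h5 := sq_nonneg (4 * x 4 - 5 * x 5)
  have h6 := sq_nonneg (3 * x 5 - 4 * x 6)
  have h7 := sq_nonneg (2 * x 6 - 3 * x 7)
  have h8 := sq_nonneg (x 7)
  have e7 : x 7 = 0 := pow_eq_zero_iff (two_ne_zero) |>.1 (by omega : (x 7) ^ 2 = 0)
  have e6' : 2 * x 6 - 3 * x 7 = 0 := pow_eq_zero_iff (two_ne_zero) |>.1 (by omega : (2 * x 6 - 3 * x 7) ^ 2 = 0)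
  have e5' : 3 * x 5 - 4 * x 6 = 0 := pow_eq_zero_iff (two_ne_zero) |>.1 (by omega : (3 * x 5 - 4 * x 6) ^ 2 = 0)
  have e4' : 4 * x 4 - 5 * x 5 = 0 := pow_eq_zero_iff (two_ne_zero) |>.1 (by omega : (4 * x 4 - 5 * x 5) ^ 2 = 0)
  have e3' : 5 * x 3 - 6 * x 4 = 0 := pow_eq_zero_iff (two_ne_zero) |>.1 (by omega : (5 * x 3 - 6 * x 4) ^ 2 = 0)
  have e2' : 3 * x 2 - 2 * x 3 = 0 := pow_eq_zero_iff (two_ne_zero) |>.1 (by omega : (3 * x 2 - 2 * x 3) ^ 2 = 0)
  have e1' : 2 * x 1 - x 3 = 0 := pow_eq_zero_iff (two_ne_zero) |>.1 (by omega : (2 * x 1 - x 3) ^ 2 = 0)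
  have e0' : 2 * x 0 - x 2 = 0 := pow_eq_zero_iff (two_ne_zero) |>.1 (by omega : (2 * x 0 - x 2) ^ 2 = 0)
  funext i
  show x i = 0
  fin_cases i <;> simp <;> omega

theorem two_le_form {x : Lat} (h : x ≠ 0) : 2 ≤ form x x := by
  by_contra hlt
  have h1 := form_nonneg x
  have h2 := form_self x
  exact h (eq_zero_of_form (by omega))

/-- simple roots -/
def e (i : Fin 8) : Lat := Pi.single i 1

theorem isRoot_e (i : Fin 8) : IsRoot (e i) := by
  unfold IsRoot
  rw [form_expl]
  unfold e
  fin_cases i <;> decide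

theorem form_e (x : Lat) (i : Fin 8) : form x (e i) = ∑ j, x j * GM j i := by
  unfold form e
  rw [mulVec_single_one]
  rfl

theorem form_e_e (i j : Fin 8) : form (e i) (e j) = GM i j := by
  rw [form_e, Finset.sum_eq_single i]
  · simp [e]
  · intro k _ hk
    simp [e, hk]
  · intro h
    exact absurd (Finset.mem_univ _) h

/-- simple reflections -/
noncomputable def s (i : Fin 8) : W := refl (isRoot_e i)

theorem ap_s (i : Fin 8) (x : Lat) : ap (s i) x = x - form x (e i) • e i := ap_refl _ _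

/-- positive coefficients -/
theorem root_sign {a : Lat} (ha : IsRoot a) : (∀ i, 0 ≤ a i) ∨ ∀ i, a i ≤ 0 := by
  set p : Lat := fun i => max (a i) 0 with hp
  set n : Lat := fun i => max (-a i) 0 with hn
  have hpn : a = p - n := by
    funext i
    show a i = max (a i) 0 - max (-a i) 0
    omega
  have hp0 : ∀ i, 0 ≤ p i := fun i => le_max_right _ _
  have hn0 : ∀ i, 0 ≤ n i := fun i => le_max_right _ _
  have hd : ∀ i, p i * n i = 0 := by
    intro i
    show max (a i) 0 * max (-a i) 0 = 0
    rcases le_total (a i) 0 with h | h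
    · rw [max_eq_right h, zero_mul]
    · rw [max_eq_right (by omega : -a i ≤ 0), mul_zero]
  have hm : ∀ i j, 0 ≤ p i * n j := fun i j => mul_nonneg (hp0 i) (hn0 j)
  have h1 : form p n ≤ 0 := by
    rw [form_expl, hd 0, hd 1, hd 2, hd 3, hd 4, hd 5, hd 6, hd 7]
    have := hm 0 2; have := hm 2 0; have := hm 1 3; have := hm 3 1; have := hm 2 3; have := hm 3 2
    have := hm 3 4; have := hm 4 3; have := hm 4 5; have := hm 5 4; have := hm 5 6; have := hm 6 5
    have := hm 6 7; have := hm 7 6
    omega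
  have h2 : form a a = form p p + form n n - 2 * form p n := by
    rw [hpn, form_sub_left, form_sub_right, form_sub_right, form_comm n p]; ring
  have h3 : form a a = 2 := ha
  by_cases hp' : p = 0
  · right
    intro i
    have : p i = 0 := congrFun hp' i
    have h4 : max (a i) 0 = 0 := this
    omega
  · by_cases hn' : n = 0
    · left
      intro i
      have : n i = 0 := congrFun hn' i
      have h4 : max (-a i) 0 = 0 := this
      omega
    · have := two_le_form hp'
      have := two_le_form hn'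
      omega

/-- the Weyl vector -/
def rho : Lat := ![46, 68, 91, 135, 110, 84, 57, 29]

theorem form_rho_e (i : Fin 8) : form rho (e i) = 1 := by
  rw [form_e]
  fin_cases i <;> decide

theorem form_rho (x : Lat) : form rho x = x 0 + x 1 + x 2 + x 3 + x 4 + x 5 + x 6 + x 7 := by
  rw [form_expl]
  simp [rho]
  ring

theorem form_expand (x y : Lat) : form x y = ∑ i, x i * form (e i) y := by
  have h : x = ∑ i, x i • e i := by
    funext j
    rw [Finset.sum_apply]
    simp [e, Pi.single_apply]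
  conv_lhs => rw [h]
  rw [Fin.sum_univ_eight, Fin.sum_univ_eight]
  simp only [form_add_left, form_smul_left]

theorem isRoot_ap {a : Lat} (ha : IsRoot a) (w : W) : IsRoot (ap w a) := by
  unfold IsRoot
  rw [form_ap]
  exact ha

/-- Nondegeneracy. -/
theorem eq_of_form {x y : Lat} (h : ∀ i, form x (e i) = form y (e i)) : x = y := by
  have h0 : form (x - y) (x - y) = 0 := by
    rw [form_comm, form_expand]
    refine Finset.sum_eq_zero fun i _ => ?_
    rw [form_comm (e i), form_sub_left, h i, sub_self, mul_zero]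
  exact sub_eq_zero.1 (eq_zero_of_form h0.le)

/-- An isometry that fixes `rho` is trivial. -/
theorem eq_one_of_rho {v : W} (hv : ap v rho = rho) : v = 1 := by
  -- `v` permutes the simple roots
  have h1 : ∀ i, ∃ j, ap v (e i) = e j := by
    intro i
    set a := ap v (e i) with ha
    have hr : IsRoot a := isRoot_ap (isRoot_e i) v
    have hs : form rho a = 1 := by
      rw [ha]
      nth_rewrite 1 [← hv]
      rw [form_ap, form_rho_e]
    rw [form_rho] at hs
    have hpos : ∀ i, 0 ≤ a i := by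
      rcases root_sign hr with h | h
      · exact h
      · exfalso
        have := h 0; have := h 1; have := h 2; have := h 3; have := h 4; have := h 5; have := h 6
        have := h 7
        omega
    have p0 := hpos 0; have p1 := hpos 1; have p2 := hpos 2; have p3 := hpos 3; have p4 := hpos 4
    have p5 := hpos 5; have p6 := hpos 6; have p7 := hpos 7
    have hex : ∃ j, a j = 1 := by
      by_contra hcon
      push Not at hcon
      have := hcon 0; have := hcon 1; have := hcon 2; have := hcon 3; have := hcon 4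
      have := hcon 5; have := hcon 6; have := hcon 7
      omega
    obtain ⟨j, hj⟩ := hex
    refine ⟨j, ?_⟩
    funext k
    show a k = e j k
    unfold e
    rw [Pi.single_apply]
    split
    · rename_i h; rw [h]; exact hj
    · rename_i h
      fin_cases j <;> fin_cases k <;> first | exact absurd rfl h | (simp at hj ⊢; omega)
  choose σ hσ using h1
  -- fundamental weights
  let om : Fin 8 → Lat := ![![4, 5, 7, 10, 8, 6, 4, 2], ![5, 8, 10, 15, 12, 9, 6, 3],
    ![7, 10, 14, 20, 16, 12, 8, 4], ![10, 15, 20, 30, 24, 18, 12, 6], ![8, 12, 16, 24, 20, 15, 10, 5],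
    ![6, 9, 12, 18, 15, 12, 8, 4], ![4, 6, 8, 12, 10, 8, 6, 3], ![2, 3, 4, 6, 5, 4, 3, 2]]
  have hom : ∀ i j, form (om i) (e j) = if j = i then 1 else 0 := by
    intro i j
    rw [form_e]
    fin_cases i <;> fin_cases j <;> decide
  have hinj : Function.Injective σ := by
    intro i j hij
    have : ap v (e i) = ap v (e j) := by rw [hσ, hσ, hij]
    have h2 : e i = e j := by
      have := congrArg (ap v⁻¹) this
      rwa [ap_inv_ap, ap_inv_ap] at this
    by_contra hne
    have h3 := congrFun h2 i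
    unfold e at h3
    rw [Pi.single_eq_same, Pi.single_eq_of_ne hne] at h3
    exact one_ne_zero h3
  have hsurj : Function.Surjective σ := Finite.surjective_of_injective hinj
  have h2 : ∀ i, ap v (om i) = om (σ i) := by
    intro i
    apply eq_of_form
    intro k
    obtain ⟨j, rfl⟩ := hsurj k
    rw [← hσ, form_ap, hσ, hom, hom]
    simp only [hinj.eq_iff]
  have h3 : ∀ i, form (om (σ i)) (om (σ i)) = form (om i) (om i) := by
    intro i
    rw [← h2, form_ap]
  have h4 : ∀ i j, form (om j) (om j) = form (om i) (om i) → j = i := by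
    intro i j
    rw [form_expl, form_expl]
    fin_cases i <;> fin_cases j <;> first | exact fun _ => rfl | (intro h; exfalso; revert h; decide)
  have h5 : ∀ i, ap v (e i) = e i := fun i => by rw [hσ, h4 i (σ i) (h3 i)]
  apply ext_ap
  intro x
  rw [ap_one]
  have h : x = ∑ i, x i • e i := by
    funext j
    rw [Finset.sum_apply]
    simp [e, Pi.single_apply]
  rw [h, Fin.sum_univ_eight]
  simp only [ap_add, ap_smul, h5]

/-- **The simple reflections generate.** -/
theorem mem_closure (w : W) : w ∈ Subgroup.closure (Set.range s) := by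
  set S := Subgroup.closure (Set.range s) with hS
  -- a maximum
  have hmax : ∃ u ∈ S, ∀ v ∈ S, form (ap (v * w) rho) rho ≤ form (ap (u * w) rho) rho := by
    let P : ℤ → Prop := fun n => ∃ u ∈ S, form (ap (u * w) rho) rho = n
    have hb : ∃ b : ℤ, ∀ n, P n → n ≤ b := by
      refine ⟨form rho rho, ?_⟩
      rintro n ⟨u, _, rfl⟩
      have h1 := form_nonneg (ap (u * w) rho - rho)
      rw [form_sub_left, form_sub_right, form_sub_right, form_ap, form_comm rho (ap (u * w) rho)] at h1
      linarith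
    obtain ⟨m, ⟨u, hu, hm⟩, hle⟩ := Int.exists_greatest_of_bdd hb ⟨_, 1, S.one_mem, rfl⟩
    refine ⟨u, hu, fun v hv => ?_⟩
    rw [hm]
    exact hle _ ⟨v, hv, rfl⟩
  obtain ⟨u, hu, hle⟩ := hmax
  set v := u * w with hv
  set μ := ap v rho with hμ
  have hdom : ∀ i, 0 ≤ form μ (e i) := by
    intro i
    by_contra hneg
    push Not at hneg
    have h1 := hle (s i * u) (S.mul_mem (Subgroup.subset_closure ⟨i, rfl⟩) hu)
    rw [mul_assoc, ap_mul, ← hv, ← hμ, ap_s, form_sub_left, form_smul_left, form_comm (e i), form_rho_e,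
      mul_one] at h1
    linarith
  have hdom1 : ∀ i, 1 ≤ form μ (e i) := by
    intro i
    have h1 : form μ (e i) = form rho (ap v⁻¹ (e i)) := by
      rw [← form_ap v rho, ap_ap_inv]
    have hr : IsRoot (ap v⁻¹ (e i)) := isRoot_ap (isRoot_e i) _
    have h0 : form μ (e i) ≠ 0 := by
      rw [h1, form_rho]
      intro h
      have h2 : ap v⁻¹ (e i) = 0 := by
        generalize ap v⁻¹ (e i) = a at h hr
        have hz : ∀ i, a i = 0 := by
          rcases root_sign hr with hs | hs
          · have := hs 0; have := hs 1; have := hs 2; have := hs 3; have := hs 4; have := hs 5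
            have := hs 6; have := hs 7
            intro i
            fin_cases i <;> simp <;> omega
          · have := hs 0; have := hs 1; have := hs 2; have := hs 3; have := hs 4; have := hs 5
            have := hs 6; have := hs 7
            intro i
            fin_cases i <;> simp <;> omega
        funext i
        exact hz i
      unfold IsRoot at hr
      rw [h2, form_expl] at hr
      simp at hr
    have := hdom i
    omega
  have hν : μ = rho := by
    set ν := μ - rho with hν
    have h1 : form μ μ = form rho rho := form_ap v rho rho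
    have h2 : μ = rho + ν := by rw [hν]; abel
    have h3 : 0 ≤ form rho ν := by
      rw [form_expand, Fin.sum_univ_eight]
      have h4 : ∀ i, 0 ≤ form (e i) ν := by
        intro i
        rw [form_comm, hν, form_sub_left, form_rho_e]
        have := hdom1 i
        omega
      have := h4 0; have := h4 1; have := h4 2; have := h4 3; have := h4 4; have := h4 5
      have := h4 6; have := h4 7
      simp only [rho]
      simp
      positivity
    have h4 : form ν ν ≤ 0 := by
      rw [h2, form_add_left, form_add_right, form_add_right, form_comm ν rho] at h1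
      linarith
    have h5 := eq_zero_of_form h4
    rw [h2, h5, add_zero]
  have h6 : v = 1 := eq_one_of_rho hν
  have h7 : w = u⁻¹ := by
    rw [eq_inv_iff_mul_eq_one, ← mul_eq_one_iff_eq_inv.2 (eq_inv_of_mul_eq_one_left h6) ]
    exact mul_eq_one_comm.1 (hv ▸ h6) |>.trans (h6 ▸ rfl)
  rw [h7]
  exact S.inv_mem hu

end Cfsg.Agent.OddHalf.D9.EEight.Id.Gen

end

-- merged: Cfsg.Agent.OddHalf.D9.EEight.Id.GenK
section

/-!
# Reflections have determinant `-1`; `K₀` is generated by seven rotations of order 3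
-/

set_option autoImplicit false

namespace Cfsg.Agent.OddHalf.D9.EEight.Id.Gen

open Matrix Cfsg.Agent.OddHalf.D9.EEight

theorem vec_single (a b : Lat) (i : Fin 8) :
    (1 - vecMulVec a b : Matrix (Fin 8) (Fin 8) ℤ) *ᵥ (Pi.single i 1) = Pi.single i 1 - b i • a := by
  rw [sub_mulVec, one_mulVec]
  congr 1
  rw [mulVec_single_one]
  funext j
  rw [col_apply, vecMulVec_apply, Pi.smul_apply, smul_eq_mul, mul_comm]

theorem form_single (a : Lat) (i : Fin 8) : form (Pi.single i 1) a = (GM *ᵥ a) i := by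
  rw [form_eq]
  exact single_one_dotProduct i (GM *ᵥ a)

theorem coe_refl {a : Lat} (ha : IsRoot a) :
    ((refl ha : (Matrix (Fin 8) (Fin 8) ℤ)ˣ) : Matrix (Fin 8) (Fin 8) ℤ) =
      1 - vecMulVec a (GM *ᵥ a) := by
  have h2 := form_single a
  generalize GM *ᵥ a = b at h2 ⊢
  apply Matrix.ext_of_mulVec_single
  intro i
  have h1 : ((refl ha : (Matrix (Fin 8) (Fin 8) ℤ)ˣ) : Matrix (Fin 8) (Fin 8) ℤ) *ᵥ Pi.single i 1 =
      ap (refl ha) (Pi.single i 1) := rfl
  rw [h1]
  rw [ap_refl]
  rw [h2]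
  rw [vec_single]

theorem coe_det (w : W) : ((det w : ℤˣ) : ℤ) =
    Matrix.det ((w : (Matrix (Fin 8) (Fin 8) ℤ)ˣ) : Matrix (Fin 8) (Fin 8) ℤ) := by
  unfold det
  rw [MonoidHom.comp_apply, Units.coe_map, Matrix.coe_detMonoidHom, Subgroup.coe_subtype]

theorem det_aux (a b : Lat) (h : a ⬝ᵥ b = 2) :
    Matrix.det (1 - vecMulVec a b : Matrix (Fin 8) (Fin 8) ℤ) = -1 := by
  have h1 : (1 : Matrix (Fin 8) (Fin 8) ℤ) - vecMulVec a b =
      1 + replicateCol Unit (-a) * replicateRow Unit b := by
    rw [← vecMulVec_eq Unit, neg_vecMulVec, sub_eq_add_neg]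
  rw [h1, det_one_add_replicateCol_mul_replicateRow, dotProduct_comm, neg_dotProduct, h]
  norm_num

theorem det_refl {a : Lat} (ha : IsRoot a) : det (refl ha) = -1 := by
  rw [Units.ext_iff, coe_det, coe_refl, det_aux a _ ha, Units.val_neg, Units.val_one]

theorem det_s (i : Fin 8) : det (s i) = -1 := det_refl _

theorem s_mul_s (i : Fin 8) : s i * s i = 1 := by
  apply ext_ap
  intro x
  rw [ap_mul, ap_one, ap_s, ap_s]
  exact reflFun_reflFun (isRoot_e i) x

/-- The edges of the diagram. -/
def edg : Fin 7 → Fin 8 × Fin 8 := ![(0, 2), (2, 3), (3, 4), (4, 5), (5, 6), (3, 1), (6, 7)]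

/-- The letters. -/
noncomputable def t (k : Fin 7) : W := s (edg k).1 * s (edg k).2

theorem det_t (k : Fin 7) : det (t k) = 1 := by
  unfold t
  rw [map_mul, det_s, det_s]
  decide

/-- All products of two simple reflections. -/
theorem s_mul_s_mem (i j : Fin 8) : s i * s j ∈ Subgroup.closure (Set.range t) := by
  set N := Subgroup.closure (Set.range t) with hN
  have hi : ∀ k, s (edg k).1 * s (edg k).2 ∈ N := fun k => Subgroup.subset_closure ⟨k, rfl⟩
  have hsym : ∀ {i j : Fin 8}, s i * s j ∈ N → s j * s i ∈ N := by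
    intro i j h
    have h1 := N.inv_mem h
    rw [_root_.mul_inv_rev, inv_eq_of_mul_eq_one_left (s_mul_s i), inv_eq_of_mul_eq_one_left (s_mul_s j)] at h1
    exact h1
  have htr : ∀ {i j k : Fin 8}, s i * s j ∈ N → s j * s k ∈ N → s i * s k ∈ N := by
    intro i j k h1 h2
    have h3 := N.mul_mem h1 h2
    rwa [mul_assoc, ← mul_assoc (s j), s_mul_s, one_mul] at h3
  have h0 : ∀ i, s i * s 3 ∈ N := by
    have a3 : s 3 * s 3 ∈ N := by rw [s_mul_s]; exact N.one_mem
    have a2 : s 2 * s 3 ∈ N := hi 1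
    have a0 : s 0 * s 3 ∈ N := htr (hi 0) a2
    have a1 : s 1 * s 3 ∈ N := hsym (hi 5)
    have a4 : s 4 * s 3 ∈ N := hsym (hi 2)
    have a5 : s 5 * s 3 ∈ N := htr (hsym (hi 3)) a4
    have a6 : s 6 * s 3 ∈ N := htr (hsym (hi 4)) a5
    have a7 : s 7 * s 3 ∈ N := htr (hsym (hi 6)) a6
    intro i
    fin_cases i
    · exact a0
    · exact a1
    · exact a2
    · exact a3
    · exact a4
    · exact a5
    · exact a6
    · exact a7
  exact htr (h0 i) (hsym (h0 j))

/-- **`K₀` is generated by the letters.** -/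
theorem closure_t : Subgroup.closure (Set.range t) = K₀ := by
  set N := Subgroup.closure (Set.range t) with hN
  apply le_antisymm
  · rw [hN, Subgroup.closure_le]
    rintro _ ⟨k, rfl⟩
    exact det_t k
  · have key : ∀ w : W, (det w = 1 → w ∈ N) ∧ (det w = -1 → s 0 * w ∈ N) := by
      intro w
      have hw := mem_closure w
      induction hw using Subgroup.closure_induction_left with
      | one =>
        refine ⟨fun _ => N.one_mem, fun h => ?_⟩
        rw [map_one] at h
        exact absurd h (by decide)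
      | mul_left x hx y _ ih =>
        obtain ⟨i, rfl⟩ := hx
        rw [map_mul, det_s]
        constructor
        · intro h
          have h1 : det y = -1 := by
            have := congrArg (fun u => -1 * u) h
            simpa using this
          have h2 := N.mul_mem (s_mul_s_mem i 0) (ih.2 h1)
          rwa [mul_assoc, ← mul_assoc (s 0), s_mul_s, one_mul] at h2
        · intro h
          have h1 : det y = 1 := by
            have := congrArg (fun u => -1 * u) h
            simpa using this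
          rw [← mul_assoc]
          exact N.mul_mem (s_mul_s_mem 0 i) (ih.1 h1)
      | inv_mul_cancel x hx y _ ih =>
        obtain ⟨i, rfl⟩ := hx
        rw [inv_eq_of_mul_eq_one_left (s_mul_s i), map_mul, det_s]
        constructor
        · intro h
          have h1 : det y = -1 := by
            have := congrArg (fun u => -1 * u) h
            simpa using this
          have h2 := N.mul_mem (s_mul_s_mem i 0) (ih.2 h1)
          rwa [mul_assoc, ← mul_assoc (s 0), s_mul_s, one_mul] at h2
        · intro h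
          have h1 : det y = 1 := by
            have := congrArg (fun u => -1 * u) h
            simpa using this
          rw [← mul_assoc]
          exact N.mul_mem (s_mul_s_mem 0 i) (ih.1 h1)
    intro w hw
    exact (key w).1 hw

end Cfsg.Agent.OddHalf.D9.EEight.Id.Gen

end

-- merged: Cfsg.Agent.OddHalf.D9.EEight.Id.ModTwo
section

/-!
# `W(E₈)` modulo 2

`rho2 : W →* (V4 ≃ₗ V4)`, `red : Lat → V4` onto, `rho2 w (red x) = red (ap w x)`, `Q (red x) = q x`.
-/

set_option autoImplicit false

namespace Cfsg.Agent.OddHalf.D9.EEight.Id.ModTwo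

open Matrix Cfsg.Agent.OddHalf.D9.EEight Cfsg.Agent.OddHalf.D9.EEight.Id.Gen
open Cfsg.Agent.LieClassical.OrthCore Cfsg.Agent.LieClassical.OrthTrans
open Cfsg.Agent.LieClassical.OrthFinite QuadraticMap

/-- `𝔽₂⁸` in simple root coordinates -/
abbrev V8 : Type := Fin 8 → ZMod 2

/-- `𝔽₂⁸` in hyperbolic coordinates -/
abbrev V4 : Type := Fin 4 ⊕ Fin 4 → ZMod 2

/-- rows `GM g_i`, `GM f_i` -/
def A : Matrix (Fin 4 ⊕ Fin 4) (Fin 8) (ZMod 2) := fun i =>
  Sum.elim
    (![![0, 0, 0, 1, 0, 1, 1, 0], ![0, 1, 1, 0, 0, 0, 1, 0], ![1, 0, 1, 0, 0, 0, 0, 0],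
      ![0, 1, 1, 1, 1, 1, 1, 1]])
    (![![0, 0, 0, 0, 1, 0, 0, 0], ![0, 1, 1, 0, 1, 1, 0, 1], ![1, 0, 0, 0, 0, 0, 0, 0],
      ![0, 0, 0, 1, 1, 1, 1, 1]]) i

/-- columns `f_i`, `g_i` -/
def B : Matrix (Fin 8) (Fin 4 ⊕ Fin 4) (ZMod 2) := fun j i =>
  Sum.elim
    (![![0, 0, 0, 0, 0, 1, 0, 1], ![0, 0, 0, 1, 0, 0, 1, 0], ![0, 1, 1, 0, 0, 0, 0, 0],
      ![0, 1, 0, 0, 0, 1, 1, 0]])
    (![![0, 0, 0, 0, 1, 0, 0, 1], ![0, 0, 0, 1, 0, 1, 0, 0], ![1, 1, 1, 0, 0, 0, 0, 0],
      ![0, 1, 0, 1, 0, 0, 1, 1]]) i j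

set_option maxRecDepth 4000 in
theorem A_mul_B : A * B = 1 := by decide +kernel

set_option maxRecDepth 4000 in
theorem B_mul_A : B * A = 1 := by decide +kernel

/-- change of coordinates -/
noncomputable def T : V8 ≃ₗ[ZMod 2] V4 := Matrix.toLin'OfInv B_mul_A A_mul_B

theorem T_apply (v : V8) : T v = A *ᵥ v := rfl

/-- reduction modulo 2 -/
def mo (x : Lat) : V8 := fun i => (x i : ZMod 2)

/-- the quadratic form -/
abbrev Q : QuadraticForm (ZMod 2) V4 := Cfsg.Agent.LieClassical.OrthForms.plusForm 4 (ZMod 2)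

theorem good : Good Q :=
  good_of_finite (Cfsg.Agent.LieClassical.OrthForms.nondeg_plusForm 4 (ZMod 2))
    (by rw [Module.finrank_fintype_fun_eq_card]; simp)

/-- reduction -/
noncomputable def red (x : Lat) : V4 := T (mo x)

theorem mo_add (x y : Lat) : mo (x + y) = mo x + mo y := by
  funext i
  show ((x i + y i : ℤ) : ZMod 2) = x i + y i
  push_cast
  rfl

theorem red_add (x y : Lat) : red (x + y) = red x + red y := by
  unfold red
  rw [mo_add, map_add]

/-- the form on `V8` -/
def qb (v : V8) : ZMod 2 :=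
  v 0 * v 0 + v 1 * v 1 + v 2 * v 2 + v 3 * v 3 + v 4 * v 4 + v 5 * v 5 + v 6 * v 6 + v 7 * v 7
    + v 0 * v 2 + v 1 * v 3 + v 2 * v 3 + v 3 * v 4 + v 4 * v 5 + v 5 * v 6 + v 6 * v 7

theorem qb_mo (x : Lat) : qb (mo x) = (q x : ZMod 2) := by
  unfold qb mo q
  push_cast
  have h : ∀ a : ZMod 2, -a = a := by decide
  simp only [sub_eq_add_neg, h]

set_option maxRecDepth 10000 in
theorem quad_A : ∀ v : V8, (∑ i : Fin 4, (A *ᵥ v) (.inl i) * (A *ᵥ v) (.inr i)) = qb v := by
  decide +kernel

theorem Q_T (v : V8) : Q (T v) = qb v := by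
  rw [← quad_A v, T_apply]
  show (Cfsg.Agent.LieClassical.OrthForms.plusForm 4 (ZMod 2)) (A *ᵥ v) = _
  rw [Cfsg.Agent.LieClassical.OrthForms.coe_plusForm]
  rfl

theorem Q_red (x : Lat) : Q (red x) = (q x : ZMod 2) := by
  unfold red
  rw [Q_T, qb_mo]

/-- a section -/
def lift (v : V8) : Lat := fun i => (v i).val

theorem mo_lift (v : V8) : mo (lift v) = v := by
  funext i
  show (((v i).val : ℤ) : ZMod 2) = v i
  rw [Int.cast_natCast, ZMod.natCast_zmod_val]

theorem red_surj (v : V4) : ∃ x, red x = v :=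
  ⟨lift (T.symm v), by unfold red; rw [mo_lift, LinearEquiv.apply_symm_apply]⟩

theorem exists_of_red {x y : Lat} (h : red x = red y) : ∃ u : Lat, x = y + (2 : ℤ) • u := by
  have h1 : mo x = mo y := T.injective h
  have h2 : ∀ i, ∃ c : ℤ, x i = y i + 2 * c := by
    intro i
    have h3 : ((x i : ℤ) : ZMod 2) = ((y i : ℤ) : ZMod 2) := congrFun h1 i
    rw [ZMod.intCast_eq_intCast_iff_dvd_sub] at h3
    obtain ⟨c, hc⟩ := h3
    refine ⟨-c, ?_⟩
    push_cast at hc
    linarith
  choose u hu using h2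
  refine ⟨u, ?_⟩
  funext i
  show x i = y i + 2 * u i
  exact hu i

/-- conjugation by a linear equivalence -/
def conjLE {V V' : Type*} [AddCommGroup V] [Module (ZMod 2) V] [AddCommGroup V'] [Module (ZMod 2) V']
    (T : V ≃ₗ[ZMod 2] V') : (V ≃ₗ[ZMod 2] V) →* (V' ≃ₗ[ZMod 2] V') where
  toFun g := (T.symm.trans g).trans T
  map_one' := by ext v; simp
  map_mul' g h := by ext v; simp

theorem conjLE_apply {V V' : Type*} [AddCommGroup V] [Module (ZMod 2) V] [AddCommGroup V']
    [Module (ZMod 2) V'] (T : V ≃ₗ[ZMod 2] V') (g : V ≃ₗ[ZMod 2] V) (v : V) :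
    conjLE T g (T v) = T (g v) := by
  show T (g (T.symm (T v))) = _
  rw [LinearEquiv.symm_apply_apply]

/-- reduction of matrices -/
noncomputable def rho0 : W →* (Matrix (Fin 8) (Fin 8) (ZMod 2))ˣ :=
  (Units.map ((Int.castRingHom (ZMod 2)).mapMatrix.toMonoidHom)).comp W.subtype

/-- the representation modulo 2 -/
noncomputable def rho2 : W →* (V4 ≃ₗ[ZMod 2] V4) :=
  (conjLE T).comp ((glEquiv (Fin 8) (ZMod 2)).toMonoidHom.comp rho0)

theorem mo_ap (w : W) (x : Lat) :
    (glEquiv (Fin 8) (ZMod 2) (rho0 w)) (mo x) = mo (ap w x) := by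
  rw [glEquiv_apply]
  funext i
  show (∑ j, ((((w : (Matrix (Fin 8) (Fin 8) ℤ)ˣ) : Matrix (Fin 8) (Fin 8) ℤ) i j : ℤ) : ZMod 2) *
    ((x j : ℤ) : ZMod 2)) = ((∑ j, ((w : (Matrix (Fin 8) (Fin 8) ℤ)ˣ) : Matrix (Fin 8) (Fin 8) ℤ) i j * x j : ℤ) : ZMod 2)
  push_cast
  rfl

theorem rho2_red (w : W) (x : Lat) : rho2 w (red x) = red (ap w x) := by
  show conjLE T (glEquiv (Fin 8) (ZMod 2) (rho0 w)) (T (mo x)) = T (mo (ap w x))
  rw [conjLE_apply, mo_ap]

theorem q_ap (w : W) (x : Lat) : q (ap w x) = q x := by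
  have h := form_ap w x x
  rw [form_self, form_self] at h
  omega

theorem rho2_mem (w : W) : rho2 w ∈ O Q := by
  rw [mem_O]
  intro v
  obtain ⟨x, rfl⟩ := red_surj v
  rw [rho2_red, Q_red, Q_red, q_ap]

theorem q_add (x y : Lat) : q (x + y) = q x + q y + form x y := by
  have h1 := form_self (x + y)
  have h2 := form_self x
  have h3 := form_self y
  rw [form_add_left, form_add_right, form_add_right, form_comm y x] at h1
  omega

theorem polar_red (x y : Lat) : polar Q (red x) (red y) = (form x y : ZMod 2) := by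
  unfold polar
  rw [← red_add, Q_red, Q_red, Q_red, q_add]
  push_cast
  ring

theorem q_root {a : Lat} (ha : IsRoot a) : q a = 1 := by
  have h : form a a = 2 := ha
  rw [form_self] at h
  omega

theorem Q_root {a : Lat} (ha : IsRoot a) : Q (red a) ≠ 0 := by
  rw [Q_red, q_root ha]
  decide

theorem red_smul (n : ℤ) (x : Lat) : red (n • x) = (n : ZMod 2) • red x := by
  unfold red
  rw [← map_smul]
  congr 1
  funext i
  show ((n * x i : ℤ) : ZMod 2) = (n : ZMod 2) * (x i : ZMod 2)
  push_cast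
  rfl

theorem red_sub (x y : Lat) : red (x - y) = red x - red y := by
  unfold red
  rw [← map_sub]
  congr 1
  funext i
  show ((x i - y i : ℤ) : ZMod 2) = x i - y i
  push_cast
  rfl

theorem rho2_refl {a : Lat} (ha : IsRoot a) :
    rho2 (refl ha) = Cfsg.Agent.LieClassical.OrthCore.refl Q (red a) (Q_root ha) := by
  apply LinearEquiv.ext
  intro v
  obtain ⟨x, rfl⟩ := red_surj v
  rw [rho2_red, ap_refl, refl_apply, Q_red, q_root ha, polar_red, red_sub, red_smul, form_comm]
  simp

/-! ### The kernel -/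

theorem ap_root_of_rho2 {w : W} (hw : rho2 w = 1) {a : Lat} (ha : IsRoot a) :
    ap w a = a ∨ ap w a = -a := by
  have h1 : red (ap w a) = red a := by rw [← rho2_red, hw]; rfl
  obtain ⟨u, hu⟩ := exists_of_red h1
  have h2 : form a a = 2 := ha
  have h3 : form (ap w a) (ap w a) = 2 := by rw [form_ap, h2]
  have h4 : form (ap w a) (ap w a) = form a a + 4 * form a u + 4 * form u u := by
    rw [hu, form_add_left, form_add_right, form_add_right, form_smul_left, form_smul_left,
      form_smul_right, form_smul_right, form_comm u a]; ring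
  have h5 : form u u = 2 * q u := form_self u
  have h6 : 0 ≤ form u u := form_nonneg u
  have h7 : 0 ≤ form (ap w a + a) (ap w a + a) := form_nonneg _
  have h8 : form (ap w a + a) (ap w a + a) = 4 + 2 * form (ap w a) a := by
    rw [form_add_left, form_add_right, form_add_right, h3, h2, form_comm a]; ring
  have h9 : form (ap w a) a = 2 + 2 * form a u := by
    rw [hu, form_add_left, form_smul_left, h2, form_comm u a]
  have h10 : form u u = 0 ∨ form u u = 2 := by omega
  rcases h10 with h | h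
  · left
    rw [hu, eq_zero_of_form h.le, smul_zero, add_zero]
  · right
    have h11 : form (ap w a + a) (ap w a + a) ≤ 0 := by omega
    exact eq_neg_of_add_eq_zero_left (eq_zero_of_form h11)

theorem eq_of_rho2 {w : W} (hw : rho2 w = 1) : w = 1 ∨ w = neg := by
  have h := fun i => ap_root_of_rho2 hw (isRoot_e i)
  have hadj : ∀ k : Fin 7, (ap w (e (edg k).1) = e (edg k).1 ↔ ap w (e (edg k).2) = e (edg k).2) := by
    intro k
    have h1 : form (e (edg k).1) (e (edg k).2) = -1 := by
      rw [form_e_e]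
      fin_cases k <;> decide
    have h2 := form_ap w (e (edg k).1) (e (edg k).2)
    have hne : ∀ i, e i ≠ -e i := by
      intro i hi
      have h3 := congrFun hi i
      unfold e at h3
      rw [Pi.neg_apply, Pi.single_eq_same] at h3
      omega
    rcases h (edg k).1 with h3 | h3 <;> rcases h (edg k).2 with h4 | h4
    · exact ⟨fun _ => h4, fun _ => h3⟩
    · rw [h3, h4, form_neg_right, h1] at h2; omega
    · rw [h3, h4, form_neg_left, h1] at h2; omega
    · constructor
      · intro h5; rw [h3] at h5; exact absurd h5.symm (hne _)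
      · intro h5; rw [h4] at h5; exact absurd h5.symm (hne _)
  have hall : ∀ i, (ap w (e i) = e i ↔ ap w (e 3) = e 3) := by
    have a2 := hadj 1
    have a0 := (hadj 0).trans a2
    have a1 := (hadj 5).symm
    have a4 := (hadj 2).symm
    have a5 := (hadj 3).symm.trans a4
    have a6 := (hadj 4).symm.trans a5
    have a7 := (hadj 6).symm.trans a6
    intro i
    fin_cases i
    · exact a0
    · exact a1
    · exact a2
    · exact Iff.rfl
    · exact a4
    · exact a5
    · exact a6
    · exact a7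
  have hx : ∀ x : Lat, x = ∑ i, x i • e i := by
    intro x
    funext j
    rw [Finset.sum_apply]
    simp [e, Pi.single_apply]
  rcases h 3 with h3 | h3
  · left
    apply ext_ap
    intro x
    rw [ap_one, hx x, Fin.sum_univ_eight]
    simp only [ap_add, ap_smul, (hall _).2 h3]
  · right
    have hne : ¬ ap w (e 3) = e 3 := by
      intro h4
      rw [h3] at h4
      have h5 := congrFun h4 3
      unfold e at h5
      rw [Pi.neg_apply, Pi.single_eq_same] at h5
      omega
    have h4 : ∀ i, ap w (e i) = - e i := fun i => (h i).resolve_left fun h5 => hne ((hall i).1 h5)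
    apply ext_ap
    intro x
    rw [ap_neg_one, hx x, Fin.sum_univ_eight]
    simp only [ap_add, ap_smul, h4]
    module

theorem rho2_neg : rho2 neg = 1 := by
  apply LinearEquiv.ext
  intro v
  obtain ⟨x, rfl⟩ := red_surj v
  rw [rho2_red, ap_neg_one]
  have h : red (-x) = red ((-1 : ℤ) • x) := by rw [neg_smul, one_smul]
  rw [h, red_smul]
  have h2 : ((-1 : ℤ) : ZMod 2) = 1 := by decide
  rw [h2, one_smul]
  rfl

end Cfsg.Agent.OddHalf.D9.EEight.Id.ModTwo

end

-- merged: Cfsg.Agent.OddHalf.D9.EEight.Id.Onto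
section

/-!
# `rho2` maps `W` onto `O(Q)` and `K₀` onto `Ω(Q)`
-/

set_option autoImplicit false

namespace Cfsg.Agent.OddHalf.D9.EEight.Id.Onto

open Matrix Cfsg.Agent.OddHalf.D9.EEight Cfsg.Agent.OddHalf.D9.EEight.Id.Gen
open Cfsg.Agent.OddHalf.D9.EEight.Id.ModTwo
open Cfsg.Agent.LieClassical.OrthCore Cfsg.Agent.LieClassical.OrthTrans
open Cfsg.Agent.LieClassical.OrthFinite Cfsg.Agent.LieClassical.OrthSimple QuadraticMap

/-- the positive roots, decimal digits = coefficients -/
def rts : List ℕ :=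
  [1, 10, 100, 1000, 10000, 100000, 1000000, 10000000, 11, 110, 1100, 11000, 110000, 1010000,
10100000, 111, 1110, 11100, 111000, 1011000, 1110000, 10110000, 1111, 11110, 111100, 1011100,
1111000, 10111000, 11110000, 11111, 111110, 1011110, 1111100, 1121000, 10111100, 11111000,
111111, 1011111, 1111110, 1121100, 10111110, 11111100, 11121000, 1111111, 1121110, 1122100,
10111111, 11111110, 11121100, 11221000, 1121111, 1122110, 11111111, 11121110, 11122100,
11221100, 1122111, 1122210, 11121111, 11122110, 11221110, 11222100, 1122211, 11122111, 11122210,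
11221111, 11222110, 11232100, 1122221, 11122211, 11222111, 11222210, 11232110, 12232100,
11122221, 11222211, 11232111, 11232210, 12232110, 11222221, 11232211, 11233210, 12232111,
12232210, 11232221, 11233211, 12232211, 12233210, 11233221, 12232221, 12233211, 12243210,
11233321, 12233221, 12243211, 12343210, 12233321, 12243221, 12343211, 22343210, 12243321,
12343221, 22343211, 12244321, 12343321, 22343221, 12344321, 22343321, 12354321, 22344321,
13354321, 22354321, 22454321, 23354321, 23454321, 23464321, 23465321, 23465421, 23465431,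
23465432]

/-- decoding -/
def dec (n : ℕ) : Lat := ![(n / 10000000 % 10 : ℕ), (n / 1000000 % 10 : ℕ), (n / 100000 % 10 : ℕ),
  (n / 10000 % 10 : ℕ), (n / 1000 % 10 : ℕ), (n / 100 % 10 : ℕ), (n / 10 % 10 : ℕ), (n % 10 : ℕ)]

set_option maxRecDepth 10000 in
theorem rts_root : ∀ n ∈ rts, q (dec n) = 1 := by decide +kernel

set_option maxRecDepth 10000 in
theorem rts_cover : ∀ v : V8, qb v = 1 → ∃ n ∈ rts, mo (dec n) = v := by decide +kernel

theorem exists_root {v : V4} (hv : Q v ≠ 0) : ∃ a : Lat, IsRoot a ∧ red a = v := by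
  have h1 : qb (T.symm v) = 1 := by
    rw [← Q_T, LinearEquiv.apply_symm_apply]
    revert hv
    generalize Q v = c
    revert c
    decide
  obtain ⟨n, hn, h2⟩ := rts_cover _ h1
  refine ⟨dec n, ?_, ?_⟩
  · unfold IsRoot
    rw [form_self, rts_root n hn]
    norm_num
  · unfold red
    rw [h2, LinearEquiv.apply_symm_apply]

/-- every reflection comes from a reflection of `W` -/
theorem refl_eq {v : V4} (hv : Q v ≠ 0) :
    ∃ (a : Lat) (ha : IsRoot a), rho2 (EEight.refl ha) = LieClassical.OrthCore.refl Q v hv := by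
  obtain ⟨a, ha, rfl⟩ := exists_root hv
  exact ⟨a, ha, rho2_refl ha⟩

theorem refl_mul_refl_mem {a b : Lat} (ha : IsRoot a) (hb : IsRoot b) :
    rho2 (EEight.refl ha * EEight.refl hb) ∈ E Q := by
  rw [map_mul, rho2_refl, rho2_refl]
  refine good.refl_mul_refl_mem (Q_root hb) (Q_root ha) ?_
  rw [Q_red, Q_red, q_root ha, q_root hb]

theorem rho2_mem_E {w : W} (hw : w ∈ K₀) : rho2 w ∈ E Q := by
  rw [← closure_t] at hw
  have h : Subgroup.closure (Set.range t) ≤ (E Q).comap rho2 := by
    rw [Subgroup.closure_le]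
    rintro _ ⟨k, rfl⟩
    exact refl_mul_refl_mem _ _
  exact h hw

theorem two_refl_ne : ∃ g ∈ Subgroup.closure (reflSet Q) ⊓ E Q, ¬ ∃ c : ZMod 2, ∀ v : V4, g v = c • v := by
  refine ⟨rho2 (EEight.refl (isRoot_e 0) * EEight.refl (isRoot_e 2)), ⟨?_, refl_mul_refl_mem _ _⟩, ?_⟩
  · rw [map_mul, rho2_refl, rho2_refl]
    exact Subgroup.mul_mem _ (Subgroup.subset_closure ⟨_, _, rfl⟩) (Subgroup.subset_closure ⟨_, _, rfl⟩)
  · rintro ⟨c, hc⟩
    have h1 := hc (red (e 0))
    rw [rho2_red] at h1
    have h2 : red (ap (EEight.refl (isRoot_e 0) * EEight.refl (isRoot_e 2)) (e 0)) = red (e 2) := by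
      rw [ap_mul, ap_refl, ap_refl, form_e_e]
      have e1 : (GM 0 2 : ℤ) = -1 := by decide
      rw [e1, form_sub_left, form_smul_left, form_e_e, form_e_e]
      have e2 : (GM 0 0 : ℤ) = 2 := by decide
      have e3 : (GM 2 0 : ℤ) = -1 := by decide
      rw [e2, e3]
      congr 1
      module
    rw [h2] at h1
    have h3 : polar Q (red (e 0)) (red (e 2)) = 0 := by
      rw [h1, polar_smul_right, polar_red, form_e_e]
      have e2 : (GM 0 0 : ℤ) = 2 := by decide
      rw [e2]
      have : ((2 : ℤ) : ZMod 2) = 0 := by decide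
      rw [this, smul_zero]
    rw [polar_red, form_e_e] at h3
    revert h3
    decide

theorem E_le_closure : E Q ≤ Subgroup.closure (reflSet Q) := by
  have hR : ∀ g ∈ O Q, ∀ n ∈ Subgroup.closure (reflSet Q), g * n * g⁻¹ ∈ Subgroup.closure (reflSet Q) := by
    intro g hg n hn
    induction hn using Subgroup.closure_induction with
    | mem x hx =>
      obtain ⟨v, hv, rfl⟩ := hx
      have hv' : Q (g v) ≠ 0 := by rw [mem_O.1 hg]; exact hv
      rw [refl_conj hg hv hv']
      exact Subgroup.subset_closure ⟨_, hv', rfl⟩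
    | one => simp
    | mul x y _ _ hx hy =>
      rw [show g * (x * y) * g⁻¹ = g * x * g⁻¹ * (g * y * g⁻¹) by group]
      exact Subgroup.mul_mem _ hx hy
    | inv x _ hx =>
      rw [show g * x⁻¹ * g⁻¹ = (g * x * g⁻¹)⁻¹ by group]
      exact Subgroup.inv_mem _ hx
  rcases good_normal_dichotomy (N := Subgroup.closure (reflSet Q) ⊓ E Q) good inf_le_right
    (fun g hg n hn => ⟨hR g (E_le_O hg) n hn.1, Subgroup.mul_mem _ (Subgroup.mul_mem _ hg hn.2)
      (Subgroup.inv_mem _ hg)⟩) with h | h
  · obtain ⟨g, hg, h1⟩ := two_refl_ne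
    exact absurd (h g hg) h1
  · rw [← h]
    exact inf_le_left

/-- **`rho2` maps `W` onto the group generated by the reflections.** -/
theorem closure_le_range : Subgroup.closure (reflSet Q) ≤ rho2.range := by
  rw [Subgroup.closure_le]
  rintro _ ⟨v, hv, rfl⟩
  obtain ⟨a, ha, h⟩ := refl_eq hv
  exact ⟨_, h⟩

/-- **`rho2` maps `K₀` onto `E Q`.** -/
theorem map_K : K₀.map rho2 = E Q := by
  have hle : K₀.map rho2 ≤ E Q := by
    rintro _ ⟨w, hw, rfl⟩
    exact rho2_mem_E hw
  have hE : ∀ g ∈ E Q, ∀ n ∈ K₀.map rho2, g * n * g⁻¹ ∈ K₀.map rho2 := by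
    rintro g hg _ ⟨w, hw, rfl⟩
    obtain ⟨u, rfl⟩ := closure_le_range (E_le_closure hg)
    refine ⟨u * w * u⁻¹, ?_, by rw [map_mul, map_mul, map_inv]⟩
    exact (inferInstance : (MonoidHom.ker det).Normal).conj_mem w hw _
  rcases good_normal_dichotomy good hle hE with h | h
  · exfalso
    have h0 : rho2 (EEight.refl (isRoot_e 0) * EEight.refl (isRoot_e 2)) ∈ K₀.map rho2 :=
      ⟨_, by rw [SetLike.mem_coe, mem_K₀, map_mul, det_refl, det_refl]; decide, rfl⟩
    obtain ⟨c, hc⟩ := h _ h0
    have h1 := hc (red (e 0))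
    rw [rho2_red] at h1
    have h2 : red (ap (EEight.refl (isRoot_e 0) * EEight.refl (isRoot_e 2)) (e 0)) = red (e 2) := by
      rw [ap_mul, ap_refl, ap_refl, form_e_e]
      have e1 : (GM 0 2 : ℤ) = -1 := by decide
      rw [e1, form_sub_left, form_smul_left, form_e_e, form_e_e]
      have e2 : (GM 0 0 : ℤ) = 2 := by decide
      have e3 : (GM 2 0 : ℤ) = -1 := by decide
      rw [e2, e3]
      congr 1
      module
    rw [h2] at h1
    have h3 : polar Q (red (e 0)) (red (e 2)) = 0 := by
      rw [h1, polar_smul_right, polar_red, form_e_e]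
      have e2 : (GM 0 0 : ℤ) = 2 := by decide
      rw [e2]
      have : ((2 : ℤ) : ZMod 2) = 0 := by decide
      rw [this, smul_zero]
    rw [polar_red, form_e_e] at h3
    revert h3
    decide
  · exact h

/-- the centre of `E Q` is trivial -/
theorem center_E : Subgroup.center ↥(E Q) = ⊥ := by
  rw [eq_bot_iff]
  intro z hz
  obtain ⟨c, hc⟩ := ClassicalGeometry.OrthAut1.center_scalar good hz
  rw [Subgroup.mem_bot]
  apply Subtype.ext
  apply LinearEquiv.ext
  intro v
  rw [hc]
  have h1 : c = 1 := by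
    have h2 : c = 0 ∨ c = 1 := (by decide : ∀ c : ZMod 2, c = 0 ∨ c = 1) c
    rcases h2 with h2 | h2
    · exfalso
      have h3 := hc (red (e 0))
      rw [h2, zero_smul] at h3
      have h4 : red (e 0) = 0 := (LinearEquiv.map_eq_zero_iff _).1 h3
      have h5 := Q_root (isRoot_e 0)
      rw [h4, QuadraticMap.map_zero] at h5
      exact h5 rfl
    · exact h2
  rw [h1, one_smul]
  rfl

/-- `K₀ → E Q` -/
noncomputable def toE : K₀ →* E Q where
  toFun w := ⟨rho2 w, rho2_mem_E w.2⟩
  map_one' := Subtype.ext (map_one rho2)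
  map_mul' a b := Subtype.ext (map_mul rho2 (a : W) b)

theorem coe_toE (w : K₀) : (toE w : V4 ≃ₗ[ZMod 2] V4) = rho2 w := rfl

theorem toE_surj : Function.Surjective toE := by
  intro g
  have h : (g : V4 ≃ₗ[ZMod 2] V4) ∈ K₀.map rho2 := by rw [map_K]; exact g.2
  obtain ⟨w, hw, h1⟩ := h
  exact ⟨⟨w, hw⟩, Subtype.ext h1⟩

theorem det_neg' : det neg = 1 := by
  rw [Units.ext_iff, coe_det]
  have h : ((neg : (Matrix (Fin 8) (Fin 8) ℤ)ˣ) : Matrix (Fin 8) (Fin 8) ℤ) = -1 := rfl
  rw [h, Matrix.det_neg, Matrix.det_one, Fintype.card_fin]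
  norm_num

/-- `-1` as an element of `K₀` -/
def negK : K₀ := ⟨neg, det_neg'⟩

theorem neg_ne_one : neg ≠ 1 := by
  intro h
  have h1 := congrArg (fun w => ap w (e 0) 0) h
  simp only [ap_neg_one, ap_one] at h1
  unfold e at h1
  rw [Pi.neg_apply, Pi.single_eq_same] at h1
  omega

theorem negK_ne_one : negK ≠ 1 := fun h => neg_ne_one (congrArg Subtype.val h)

theorem neg_mul_neg : neg * neg = 1 := by
  apply ext_ap
  intro x
  rw [ap_mul, ap_neg_one, ap_neg_one, neg_neg, ap_one]

theorem negK_mul_self : negK * negK = 1 := Subtype.ext neg_mul_neg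

theorem neg_comm (w : W) : neg * w = w * neg := by
  apply ext_ap
  intro x
  rw [ap_mul, ap_mul, ap_neg_one, ap_neg_one, ap_neg]

theorem negK_comm (w : K₀) : negK * w = w * negK := Subtype.ext (neg_comm w)

/-- the covering map onto `P Q` -/
noncomputable def pi1 : K₀ →* ClassicalGeometry.OrthAut1.P Q :=
  (QuotientGroup.mk' (Subgroup.center ↥(E Q))).comp toE

theorem pi1_surj : Function.Surjective pi1 :=
  (QuotientGroup.mk'_surjective _).comp toE_surj

theorem pi1_apply (w : K₀) : pi1 w = QuotientGroup.mk' (Subgroup.center ↥(E Q)) (toE w) := rfl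

theorem mk_eq_one {g : ↥(E Q)} : QuotientGroup.mk' (Subgroup.center ↥(E Q)) g = 1 ↔ g = 1 := by
  have h := QuotientGroup.ker_mk' (Subgroup.center ↥(E Q))
  rw [← MonoidHom.mem_ker, h, center_E, Subgroup.mem_bot]

theorem pi1_eq_one {w : K₀} : pi1 w = 1 ↔ w = 1 ∨ w = negK := by
  rw [pi1_apply, mk_eq_one]
  constructor
  · intro h1
    have h2 : rho2 (w : W) = 1 := by
      rw [← coe_toE, h1]
      exact Subgroup.coe_one _
    rcases eq_of_rho2 h2 with h3 | h3
    · exact Or.inl (Subtype.ext h3)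
    · exact Or.inr (Subtype.ext h3)
  · rintro (rfl | rfl)
    · exact map_one _
    · exact Subtype.ext rho2_neg

theorem card_omega_Q : Nat.card (Cfsg.Omega (ZMod 2) (⇑Q)) = 174182400 := by
  have hQ : (⇑Q) = Cfsg.quadFormPlus 4 (ZMod 2) := LieClassical.OrthForms.coe_plusForm 4 (ZMod 2)
  rw [hQ]
  exact LargeExtra.Cards.card_omega_plus_eight

theorem card_E : Nat.card (E Q) = 174182400 :=
  (Nat.card_congr ((omegaEquiv Q).trans (MulEquiv.subgroupCongr good.commutator_eq_E)).toEquiv).symm.trans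
    card_omega_Q

theorem card_P : Nat.card (ClassicalGeometry.OrthAut1.P Q) = 174182400 := by
  have h3 := (Subgroup.center ↥(E Q)).card_mul_index
  have h4 : Nat.card (Subgroup.center ↥(E Q)) = 1 := by rw [center_E, Subgroup.card_bot]
  rw [h4, one_mul, card_E] at h3
  exact h3

theorem simple_P : IsSimpleGroup (ClassicalGeometry.OrthAut1.P Q) := good_isSimpleGroup good

end Cfsg.Agent.OddHalf.D9.EEight.Id.Onto

end
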